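import Mathlib
import Cfsg.Prelude.Def_LieTypeDatum
set_option linter.all false

/-!
# Counting the classes into which a class splits; transport of centralizers (helper202)

* `splitClassCount_eq` : `K ≤ H`, `K` normalised by `H`: the number of `K`-classes in the `H`-class of `x` is the index of
  `K ⊔ C_H(x)` in `H`.
* `splitClassCount_conj`, `centEquiv` : `H`, `K` normal in the whole group: invariance under conjugation of `x`.
-/

set_option autoImplicit false

namespace Cfsg.Agent.H202.Split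

open Cfsg

variable {X : Type*} [Group X]

theorem isConjUnder_iff {H : Subgroup X} {x y : X} : IsConjUnder H x y ↔ ∃ h ∈ H, y = h * x * h⁻¹ := Iff.rfl

theorem isConjUnder_refl (H : Subgroup X) (x : X) : IsConjUnder H x x := ⟨1, one_mem _, by simp⟩

theorem isConjUnder_symm {H : Subgroup X} {x y : X} (h : IsConjUnder H x y) : IsConjUnder H y x := by
  obtain ⟨g, hg, rfl⟩ := h
  exact ⟨g⁻¹, inv_mem hg, by group⟩

theorem isConjUnder_trans {H : Subgroup X} {x y z : X} (h : IsConjUnder H x y) (h' : IsConjUnder H y z) :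
    IsConjUnder H x z := by
  obtain ⟨g, hg, rfl⟩ := h
  obtain ⟨k, hk, rfl⟩ := h'
  exact ⟨k * g, mul_mem hk hg, by group⟩

theorem isConjUnder_mono {H K : Subgroup X} (hKH : K ≤ H) {x y : X} (h : IsConjUnder K x y) : IsConjUnder H x y := by
  obtain ⟨g, hg, rfl⟩ := h
  exact ⟨g, hKH hg, rfl⟩

/-- Conjugating both elements. -/
theorem isConjUnder_conj {H : Subgroup X} {a : X} (ha : ∀ h ∈ H, a * h * a⁻¹ ∈ H) {x y : X}
    (h : IsConjUnder H x y) : IsConjUnder H (a * x * a⁻¹) (a * y * a⁻¹) := by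
  obtain ⟨g, hg, rfl⟩ := h
  exact ⟨a * g * a⁻¹, ha g hg, by group⟩

theorem isConjUnder_of_conj {H : Subgroup X} {a : X} (ha : ∀ h ∈ H, a⁻¹ * h * a ∈ H) {x y : X}
    (h : IsConjUnder H (a * x * a⁻¹) (a * y * a⁻¹)) : IsConjUnder H x y := by
  have h1 := isConjUnder_conj (H := H) (a := a⁻¹) (by simpa using ha) h
  have e : ∀ z : X, a⁻¹ * (a * z * a⁻¹) * a⁻¹⁻¹ = z := fun z => by group
  rwa [e, e] at h1

theorem orderOf_conj (a x : X) : orderOf (a * x * a⁻¹) = orderOf x := by
  have h := orderOf_injective (MulAut.conj a).toMonoidHom (MulAut.conj a).injective x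
  simpa using h

theorem orderOf_eq_of_isConjUnder {H : Subgroup X} {x y : X} (h : IsConjUnder H x y) : orderOf y = orderOf x := by
  obtain ⟨g, hg, rfl⟩ := h
  exact orderOf_conj g x

/-- **The number of `K`-classes in the `H`-class of `x`.** -/
theorem splitClassCount_eq {H K : Subgroup X} (hKH : K ≤ H) (hn : ∀ h ∈ H, ∀ k ∈ K, h * k * h⁻¹ ∈ K) (x : X) :
    splitClassCount H K x = (K ⊔ (H ⊓ Subgroup.centralizer {x})).relIndex H := by
  classical
  set M : Subgroup X := K ⊔ (H ⊓ Subgroup.centralizer {x}) with hM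
  have hMH : M ≤ H := sup_le hKH inf_le_left
  -- membership in `M`
  have hmem : ∀ g : X, g ∈ M ↔ ∃ k ∈ K, ∃ c ∈ H ⊓ Subgroup.centralizer {x}, k * c = g := by
    intro g
    constructor
    · intro hg
      rw [hM, Subgroup.sup_eq_closure] at hg
      induction hg using Subgroup.closure_induction with
      | mem y hy =>
        rcases hy with hy | hy
        · exact ⟨y, hy, 1, one_mem _, mul_one _⟩
        · exact ⟨1, one_mem _, y, hy, one_mul _⟩
      | one => exact ⟨1, one_mem _, 1, one_mem _, one_mul _⟩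
      | mul a b _ _ iha ihb =>
        obtain ⟨k, hk, c, hc, rfl⟩ := iha
        obtain ⟨k', hk', c', hc', rfl⟩ := ihb
        refine ⟨k * (c * k' * c⁻¹), mul_mem hk (hn c hc.1 k' hk'), c * c', mul_mem hc hc', by group⟩
      | inv a _ iha =>
        obtain ⟨k, hk, c, hc, rfl⟩ := iha
        refine ⟨c⁻¹ * k⁻¹ * c, ?_, c⁻¹, inv_mem hc, by group⟩
        have h0 := hn c⁻¹ (inv_mem hc.1) k⁻¹ (inv_mem hk)
        rwa [inv_inv] at h0
    · rintro ⟨k, hk, c, hc, rfl⟩
      exact mul_mem (Subgroup.mem_sup_left hk) (Subgroup.mem_sup_right hc)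
  have hcen : ∀ c : X, c ∈ Subgroup.centralizer ({x} : Set X) ↔ c * x = x * c := by
    intro c
    rw [Subgroup.mem_centralizer_singleton_iff]
  rw [splitClassCount, Subgroup.relIndex, Subgroup.index]
  -- the map
  let f : ↥H → Quot fun y z : {y : X // IsConjUnder H x y} => IsConjUnder K y.1 z.1 :=
    fun h => Quot.mk _ ⟨(h : X) * x * (h : X)⁻¹, h, h.2, rfl⟩
  have hrel : Equivalence fun y z : {y : X // IsConjUnder H x y} => IsConjUnder K y.1 z.1 :=
    ⟨fun y => isConjUnder_refl K y.1, fun h => isConjUnder_symm h, fun h h' => isConjUnder_trans h h'⟩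
  have hf : ∀ a b : ↥H, f a = f b ↔ a⁻¹ * b ∈ M.subgroupOf H := by
    intro a b
    have h1 : f a = f b ↔ IsConjUnder K ((a : X) * x * (a : X)⁻¹) ((b : X) * x * (b : X)⁻¹) := by
      change Quot.mk _ _ = Quot.mk _ _ ↔ _
      rw [Quot.eq, hrel.eqvGen_iff]
    rw [h1, Subgroup.mem_subgroupOf]
    have hcoe : (((a⁻¹ * b : ↥H)) : X) = (a : X)⁻¹ * b := rfl
    rw [hcoe, hmem]
    constructor
    · rintro ⟨k, hk, e⟩
      -- `b x b⁻¹ = k a x a⁻¹ k⁻¹`
      refine ⟨(a : X)⁻¹ * k * a, ?_, (a : X)⁻¹ * k⁻¹ * b, Subgroup.mem_inf.2 ⟨?_, ?_⟩, by group⟩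
      · have := hn (a : X)⁻¹ (inv_mem a.2) k hk
        simpa using this
      · exact mul_mem (mul_mem (inv_mem a.2) (inv_mem (hKH hk))) b.2
      · rw [hcen]
        have e' : (b : X) * x = k * ((a : X) * x * (a : X)⁻¹) * k⁻¹ * b := by
          rw [← e]; group
        calc (a : X)⁻¹ * k⁻¹ * b * x = (a : X)⁻¹ * k⁻¹ * (b * x) := by group
          _ = (a : X)⁻¹ * k⁻¹ * (k * ((a : X) * x * (a : X)⁻¹) * k⁻¹ * b) := by rw [e']
          _ = x * ((a : X)⁻¹ * k⁻¹ * b) := by group
    · rintro ⟨k, hk, c, hc, e⟩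
      have hb : (b : X) = a * (k * c) := by rw [e]; group
      have hc' := (hcen c).1 hc.2
      refine ⟨(a : X) * k * (a : X)⁻¹, hn a a.2 k hk, ?_⟩
      rw [hb]
      have h3 : c * x * c⁻¹ = x := by rw [hc']; group
      calc (a : X) * (k * c) * x * ((a : X) * (k * c))⁻¹ = a * k * (c * x * c⁻¹) * k⁻¹ * (a : X)⁻¹ := by group
        _ = a * k * x * k⁻¹ * (a : X)⁻¹ := by rw [h3]
        _ = (a : X) * k * (a : X)⁻¹ * ((a : X) * x * (a : X)⁻¹) * ((a : X) * k * (a : X)⁻¹)⁻¹ := by group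
  let F : (↥H ⧸ M.subgroupOf H) → Quot fun y z : {y : X // IsConjUnder H x y} => IsConjUnder K y.1 z.1 :=
    fun g => Quotient.liftOn' g f (by
      intro a b hab
      rw [QuotientGroup.leftRel_apply] at hab
      exact (hf a b).2 hab)
  have hF : ∀ a : ↥H, F (QuotientGroup.mk a) = f a := fun a => rfl
  refine (Nat.card_congr (Equiv.ofBijective F ⟨?_, ?_⟩)).symm
  · intro a b
    induction a using QuotientGroup.induction_on with
    | H a =>
      induction b using QuotientGroup.induction_on with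
      | H b =>
        intro h
        rw [hF, hF, hf] at h
        exact QuotientGroup.eq.2 h
  · intro y
    induction y using Quot.ind with
    | mk y =>
      obtain ⟨y, h, hh, rfl⟩ := y
      exact ⟨QuotientGroup.mk ⟨h, hh⟩, rfl⟩

/-- Conjugation invariance, centralizers. -/
noncomputable def centEquiv (H : Subgroup X) (hH : H.Normal) (a x : X) :
    ↥(H ⊓ Subgroup.centralizer {x}) ≃* ↥(H ⊓ Subgroup.centralizer {a * x * a⁻¹}) := by
  have e : (H ⊓ Subgroup.centralizer {x}).map (MulAut.conj a).toMonoidHom =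
      H ⊓ Subgroup.centralizer {a * x * a⁻¹} := by
    ext g
    rw [Subgroup.mem_map]
    simp only [Subgroup.mem_inf, Subgroup.mem_centralizer_singleton_iff]
    constructor
    · rintro ⟨y, ⟨hy, hyx⟩, rfl⟩
      refine ⟨hH.conj_mem _ hy a, ?_⟩
      change a * y * a⁻¹ * (a * x * a⁻¹) = a * x * a⁻¹ * (a * y * a⁻¹)
      calc a * y * a⁻¹ * (a * x * a⁻¹) = a * (y * x) * a⁻¹ := by group
        _ = a * (x * y) * a⁻¹ := by rw [hyx]
        _ = a * x * a⁻¹ * (a * y * a⁻¹) := by group
    · rintro ⟨hg, hgx⟩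
      refine ⟨a⁻¹ * g * a, ⟨?_, ?_⟩, ?_⟩
      · have := hH.conj_mem _ hg a⁻¹
        simpa using this
      · calc a⁻¹ * g * a * x = a⁻¹ * (g * (a * x * a⁻¹)) * a := by group
          _ = a⁻¹ * (a * x * a⁻¹ * g) * a := by rw [hgx]
          _ = x * (a⁻¹ * g * a) := by group
      · change a * (a⁻¹ * g * a) * a⁻¹ = g
        group
  exact ((H ⊓ Subgroup.centralizer {x}).equivMapOfInjective (MulAut.conj a).toMonoidHom
    (MulAut.conj a).injective).trans (MulEquiv.subgroupCongr e)

/-- Conjugation invariance of the number of classes. -/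
theorem splitClassCount_conj {H K : Subgroup X} (hH : H.Normal) (hK : K.Normal) (a x : X) :
    splitClassCount H K (a * x * a⁻¹) = splitClassCount H K x := by
  have hHa : ∀ b : X, ∀ h ∈ H, b * h * b⁻¹ ∈ H := fun b h hh => hH.conj_mem _ hh b
  have hKa : ∀ b : X, ∀ h ∈ K, b * h * b⁻¹ ∈ K := fun b h hh => hK.conj_mem _ hh b
  let E : {y : X // IsConjUnder H x y} ≃ {y : X // IsConjUnder H (a * x * a⁻¹) y} :=
    { toFun := fun y => ⟨a * y.1 * a⁻¹, isConjUnder_conj (hHa a) y.2⟩
      invFun := fun y => ⟨a⁻¹ * y.1 * a, by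
        have := isConjUnder_conj (hHa a⁻¹) y.2
        have e : a⁻¹ * (a * x * a⁻¹) * a⁻¹⁻¹ = x := by group
        rw [e, inv_inv] at this
        exact this⟩
      left_inv := fun y => Subtype.ext (by change a⁻¹ * (a * y.1 * a⁻¹) * a = y.1; group)
      right_inv := fun y => Subtype.ext (by change a * (a⁻¹ * y.1 * a) * a⁻¹ = y.1; group) }
  rw [splitClassCount, splitClassCount]
  refine (Nat.card_congr (Quot.congr E ?_)).symm
  intro y z
  constructor
  · intro h
    exact isConjUnder_conj (hKa a) h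
  · intro h
    refine isConjUnder_of_conj (a := a) ?_ h
    intro k hk
    have := hKa a⁻¹ k hk
    simpa using this

end Cfsg.Agent.H202.Split
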