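import Mathlib
import Cfsg.Agent.H202.Split
set_option linter.all false

/-!
# Counting classes through a determinant-like homomorphism (helper202)

* `count_general` : `H = θ(B)`, `K ≤ H` normalised by `H`, `χ : B → Z` surjective with `ker χ ≤ θ⁻¹(K)`:
  `splitClassCount H K x` is the index of `χ(θ⁻¹(K)) ⊔ χ(θ⁻¹(C(x)))` in `Z`;
* `range_pow_sup` : `Z^a ⊔ Z^b = Z^gcd(a,b)` in a commutative group; `index_pow` for cyclic groups.
-/

set_option autoImplicit false

namespace Cfsg.Agent.H202.Count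

open Cfsg Cfsg.Agent.H202.Split

theorem count_general {B X Z : Type*} [Group B] [Group X] [Group Z] (θ : B →* X) (χ : B →* Z)
    (hχ : Function.Surjective χ) {H K : Subgroup X} (hH : H = θ.range) (hK : K ≤ H)
    (hn : ∀ h ∈ H, ∀ k ∈ K, h * k * h⁻¹ ∈ K) (hker : χ.ker ≤ K.comap θ) (x : X) :
    splitClassCount H K x =
      ((K.comap θ).map χ ⊔ ((Subgroup.centralizer ({x} : Set X)).comap θ).map χ).index := by
  rw [splitClassCount_eq hK hn]
  subst hH
  rw [← Subgroup.index_comap, ← Subgroup.comap_sup_eq_of_le_range θ hK inf_le_left, Subgroup.comap_inf]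
  have h1 : θ.range.comap θ = ⊤ := by
    ext b
    exact ⟨fun _ => Subgroup.mem_top _, fun _ => ⟨b, rfl⟩⟩
  rw [h1, top_inf_eq, ← Subgroup.index_map_eq _ hχ (hker.trans le_sup_left), Subgroup.map_sup]

theorem range_pow_sup {Z : Type*} [CommGroup Z] (a b : ℕ) :
    (powMonoidHom a : Z →* Z).range ⊔ (powMonoidHom b : Z →* Z).range = (powMonoidHom (Nat.gcd a b) : Z →* Z).range := by
  apply le_antisymm
  · rw [sup_le_iff]
    constructor
    · rintro _ ⟨z, rfl⟩
      obtain ⟨k, hk⟩ := Nat.gcd_dvd_left a b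
      refine ⟨z ^ k, ?_⟩
      rw [powMonoidHom_apply, powMonoidHom_apply, ← pow_mul, mul_comm, ← hk]
    · rintro _ ⟨z, rfl⟩
      obtain ⟨k, hk⟩ := Nat.gcd_dvd_right a b
      refine ⟨z ^ k, ?_⟩
      rw [powMonoidHom_apply, powMonoidHom_apply, ← pow_mul, mul_comm, ← hk]
  · rintro _ ⟨z, rfl⟩
    rw [powMonoidHom_apply]
    have h1 : z ^ (Nat.gcd a b) = (z ^ (Nat.gcdA a b)) ^ a * (z ^ (Nat.gcdB a b)) ^ b := by
      rw [← zpow_natCast, ← zpow_natCast, ← zpow_natCast, ← zpow_mul, ← zpow_mul, ← zpow_add, Nat.gcd_eq_gcd_ab a b]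
      congr 1
      ring
    rw [h1]
    exact mul_mem (Subgroup.mem_sup_left ⟨_, rfl⟩) (Subgroup.mem_sup_right ⟨_, rfl⟩)

end Cfsg.Agent.H202.Count
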