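import Mathlib
import Cfsg.Agent.CpAut.Descent
set_option linter.all false

/-!
# Cyclic Galois descent for invertible matrices over a finite field (helper202)

`sl g σ : v ↦ g (σ v)` as a permutation of `F^ι`.

* `exists_descent` : `(sl g σ) ^ ℓ = 1`, `ℓ = orderOf σ`: `g * σ(M) = M` for some `M`;
* `exists_descent_scalar` : `(sl g σ) ^ ℓ` a scalar: `(c • g) * σ(M) = M` for some unit `c`;
* `exists_fixed_multiple` : `σ(g) = c g` implies that some multiple `e g`, `e ≠ 0`, has entries fixed by `σ`;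
* `exists_hom` : `|F₀| ^ ℓ = |F|`, `ℓ = orderOf σ`: an embedding `j : F₀ → F` with image the fixed field of `σ`;
* `exists_descend_matrix` : a matrix with entries in the range of `j` is the image of a matrix over `F₀`.
-/

set_option autoImplicit false
set_option linter.unusedSectionVars false
set_option linter.style.haveILetI false

namespace Cfsg.Agent.H202.Descent

open Matrix Cfsg.Agent.CpAut.Descent

variable {ι F : Type*} [Fintype ι] [DecidableEq ι] [Field F]

/-- `v ↦ g (σ v)`. -/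
def sl (g : GL ι F) (σ : F ≃+* F) : Equiv.Perm (ι → F) where
  toFun v := (g : Matrix ι ι F) *ᵥ (fun i => σ (v i))
  invFun v := fun i => σ.symm ((((g⁻¹ : GL ι F) : Matrix ι ι F) *ᵥ v) i)
  left_inv v := by
    funext i
    change σ.symm ((((g⁻¹ : GL ι F) : Matrix ι ι F) *ᵥ ((g : Matrix ι ι F) *ᵥ (fun i => σ (v i)))) i) = v i
    rw [mulVec_mulVec, ← Units.val_mul, inv_mul_cancel, Units.val_one, one_mulVec, σ.symm_apply_apply]
  right_inv v := by
    change (g : Matrix ι ι F) *ᵥ (fun i => σ (σ.symm ((((g⁻¹ : GL ι F) : Matrix ι ι F) *ᵥ v) i))) = v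
    simp only [RingEquiv.apply_symm_apply]
    change (g : Matrix ι ι F) *ᵥ (((g⁻¹ : GL ι F) : Matrix ι ι F) *ᵥ v) = v
    rw [mulVec_mulVec, ← Units.val_mul, mul_inv_cancel, Units.val_one, one_mulVec]

theorem sl_apply (g : GL ι F) (σ : F ≃+* F) (v : ι → F) :
    sl g σ v = (g : Matrix ι ι F) *ᵥ (fun i => σ (v i)) := rfl

theorem map_mulVec (σ : F ≃+* F) (M : Matrix ι ι F) (v : ι → F) :
    (fun i => σ ((M *ᵥ v) i)) = (M.map σ) *ᵥ (fun i => σ (v i)) := by
  funext i
  change σ (∑ j, M i j * v j) = ∑ j, σ (M i j) * σ (v j)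
  rw [map_sum]
  exact Finset.sum_congr rfl fun j _ => map_mul σ _ _

theorem semi_sl (g : GL ι F) (σ : F ≃+* F) : Semi (sl g σ) σ where
  add u v := by
    rw [sl_apply, sl_apply, sl_apply, ← mulVec_add]
    congr 1
    funext i
    exact map_add σ _ _
  smul a v := by
    rw [sl_apply, sl_apply, ← mulVec_smul]
    congr 1
    funext i
    exact map_mul σ _ _

/-- `σ` applied to an invertible matrix. -/
def gm (j : F ≃+* F) : GL ι F →* GL ι F := Matrix.GeneralLinearGroup.map (j : F →+* F)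

theorem coe_gm (σ : F ≃+* F) (A : GL ι F) : (gm σ A : Matrix ι ι F) = (A : Matrix ι ι F).map σ := rfl

theorem sl_mul (σ τ : F ≃+* F) (A B : GL ι F) : sl A σ * sl B τ = sl (A * gm σ B) (σ * τ) := by
  ext1 v
  rw [Equiv.Perm.mul_apply, sl_apply, sl_apply, map_mulVec, mulVec_mulVec, ← coe_gm, ← Units.val_mul]
  rfl

theorem sl_one_one : sl (1 : GL ι F) (1 : F ≃+* F) = 1 := by
  ext1 v
  rw [sl_apply, Units.val_one, one_mulVec]
  rfl

/-- the scalar matrix of a unit -/
def scg (c : Fˣ) : GL ι F where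
  val := (c : F) • 1
  inv := ((c⁻¹ : Fˣ) : F) • 1
  val_inv := by rw [smul_mul_smul_comm, ← Units.val_mul, mul_inv_cancel, Units.val_one, one_smul, mul_one]
  inv_val := by rw [smul_mul_smul_comm, ← Units.val_mul, inv_mul_cancel, Units.val_one, one_smul, mul_one]

theorem coe_scg (c : Fˣ) : (scg (ι := ι) c : Matrix ι ι F) = (c : F) • 1 := rfl

theorem coe_scg_mul (c : Fˣ) (A : GL ι F) : ((scg c * A : GL ι F) : Matrix ι ι F) = (c : F) • (A : Matrix ι ι F) := by
  rw [Units.val_mul, coe_scg, smul_mul_assoc, one_mul]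

theorem scg_mul_comm (c : Fˣ) (A : GL ι F) : scg c * A = A * scg c := by
  apply Units.ext
  rw [coe_scg_mul, Units.val_mul, coe_scg, mul_smul_comm, mul_one]

theorem scal_mul_sl (c : Fˣ) (A : GL ι F) (σ : F ≃+* F) : scal (ι → F) c * sl A σ = sl (scg c * A) σ := by
  ext1 v
  rw [Equiv.Perm.mul_apply, scal_apply, sl_apply, sl_apply, coe_scg_mul, smul_mulVec]

/-- The invertible matrix with columns a basis. -/
theorem exists_gl (b : Module.Basis ι F (ι → F)) : ∃ B : GL ι F, ∀ w, (B : Matrix ι ι F) *ᵥ w = ∑ i, w i • b i := by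
  refine ⟨⟨LinearMap.toMatrix' b.equivFun.symm.toLinearMap, LinearMap.toMatrix' b.equivFun.toLinearMap, ?_, ?_⟩, ?_⟩
  · rw [← LinearMap.toMatrix'_comp, LinearEquiv.comp_coe, LinearEquiv.self_trans_symm]
    exact LinearMap.toMatrix'_id
  · rw [← LinearMap.toMatrix'_comp, LinearEquiv.comp_coe, LinearEquiv.symm_trans_self]
    exact LinearMap.toMatrix'_id
  · intro w
    change LinearMap.toMatrix' b.equivFun.symm.toLinearMap *ᵥ w = _
    rw [LinearMap.toMatrix'_mulVec]
    exact b.equivFun_symm_apply w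

/-- **Descent** : `g * σ(M) = M`. -/
theorem exists_descent {ℓ : ℕ} {g : GL ι F} {σ : F ≃+* F} (hσ : orderOf σ = ℓ) (hℓ : 0 < ℓ)
    (h : sl g σ ^ ℓ = 1) : ∃ M : GL ι F, g * gm σ M = M := by
  obtain ⟨b, hb⟩ := exists_basis (semi_sl g σ) hσ hℓ h (ι := ι) (by rw [Module.finrank_fintype_fun_eq_card])
  obtain ⟨B, hB⟩ := exists_gl b
  refine ⟨B, ?_⟩
  apply Units.ext
  rw [Units.val_mul, ← mulVec_injective.eq_iff]
  funext v
  obtain ⟨w, rfl⟩ : ∃ w : ι → F, (fun i => σ (w i)) = v := ⟨fun i => σ.symm (v i), funext fun i => σ.apply_symm_apply _⟩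
  rw [← mulVec_mulVec, coe_gm, ← map_mulVec, ← sl_apply, hB, hB, (semi_sl g σ).map_sum]
  refine Finset.sum_congr rfl fun i _ => ?_
  rw [(semi_sl g σ).smul, hb]

/-- **Descent, projective form** : `(c • g) * σ(M) = M`. -/
theorem exists_descent_scalar [Finite F] [Nonempty ι] {ℓ : ℕ} {g : GL ι F} {σ : F ≃+* F} (hσ : orderOf σ = ℓ)
    (hℓ : 0 < ℓ) {l : F} (hl0 : l ≠ 0) (h : ∀ v, (sl g σ ^ ℓ) v = l • v) :
    ∃ (c : Fˣ) (M : GL ι F), sl (scg c * g) σ ^ ℓ = 1 ∧ scg c * g * gm σ M = M := by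
  obtain ⟨i⟩ : Nonempty ι := inferInstance
  obtain ⟨c, hc⟩ := exists_scale (semi_sl g σ) hσ hℓ hl0 h ⟨fun _ => 1, fun h => one_ne_zero (congrFun h i)⟩
  rw [scal_mul_sl] at hc
  obtain ⟨M, hM⟩ := exists_descent hσ hℓ hc
  exact ⟨c, M, hc, hM⟩

/-- A nonzero entry. -/
theorem exists_entry_ne_zero [Nonempty ι] (g : GL ι F) : ∃ i j, (g : Matrix ι ι F) i j ≠ 0 := by
  by_contra hcon
  push Not at hcon
  have h1 : (g : Matrix ι ι F) = 0 := by ext i j; exact hcon i j
  have h2 : (g : Matrix ι ι F) * ((g⁻¹ : GL ι F) : Matrix ι ι F) = 1 := by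
    rw [← Units.val_mul, mul_inv_cancel, Units.val_one]
  rw [h1, zero_mul] at h2
  obtain ⟨i⟩ : Nonempty ι := inferInstance
  have h3 := congrFun (congrFun h2 i) i
  rw [one_apply_eq] at h3
  exact zero_ne_one h3

/-- `σ(A) = c A`, `A i j ≠ 0`: the matrix `(A i j)⁻¹ A` is fixed by `σ`. -/
theorem fixed_of_entry {σ : F ≃+* F} {c : F} {A : Matrix ι ι F} (h : A.map σ = c • A) {i j : ι} (hij : A i j ≠ 0) :
    ((A i j)⁻¹ • A).map σ = (A i j)⁻¹ • A := by
  have h0 : ∀ k l, σ (A k l) = c * A k l := fun k l => congrFun (congrFun h k) l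
  have hc : c ≠ 0 := by
    rintro rfl
    have := h0 i j
    rw [zero_mul, map_eq_zero] at this
    exact hij this
  ext k l
  rw [map_apply, Matrix.smul_apply, smul_eq_mul, map_mul, map_inv₀, h0, h0, mul_inv]
  field_simp

/-- Some multiple of `g` is fixed by `σ`. -/
theorem exists_fixed_multiple [Nonempty ι] {σ : F ≃+* F} {c : F} {g : GL ι F}
    (h : (g : Matrix ι ι F).map σ = c • (g : Matrix ι ι F)) : ∃ e : Fˣ, gm σ (scg e * g) = scg e * g := by
  obtain ⟨i, j, hij⟩ := exists_entry_ne_zero g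
  refine ⟨(Units.mk0 _ hij)⁻¹, ?_⟩
  apply Units.ext
  rw [coe_gm, coe_scg_mul, Units.val_inv_eq_inv_val, Units.val_mk0]
  exact fixed_of_entry h hij

section Field

/-- `|F| = |F^σ| ^ ℓ`. -/
theorem card_fixed [Finite F] {σ : F ≃+* F} {ℓ : ℕ} (hσ : orderOf σ = ℓ) :
    Nat.card F = Nat.card ↥(RingHom.eqLocusField (σ : F →+* F) (RingHom.id F)) ^ ℓ := by
  classical
  haveI : Fintype F := Fintype.ofFinite F
  let G := Subgroup.zpowers σ
  haveI : Finite (F ≃+* F) :=
    Finite.of_injective (fun e : F ≃+* F => (e : F → F)) (fun a b h => RingEquiv.ext (congrFun h))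
  haveI : Fintype G := Fintype.ofFinite _
  have hG : Fintype.card G = ℓ := by
    rw [← Nat.card_eq_fintype_card, Nat.card_zpowers, hσ]
  have hfr : Module.finrank (FixedPoints.subfield G F) F = ℓ := by
    rw [FixedPoints.finrank_eq_card G F, hG]
  have hmem : FixedPoints.subfield G F = RingHom.eqLocusField (σ : F →+* F) (RingHom.id F) := by
    ext a
    constructor
    · intro h
      exact h ⟨σ, Subgroup.mem_zpowers σ⟩
    · rintro h ⟨g, hg⟩
      have hn : ∀ n : ℕ, (σ ^ n) a = a := by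
        intro n
        induction n with
        | zero => rfl
        | succ n ih =>
          rw [pow_succ, RingAut.mul_apply]
          have h1 : σ a = a := h
          rw [h1, ih]
      obtain ⟨k, rfl⟩ := mem_powers_iff_mem_zpowers.2 hg
      exact hn k
  rw [← hmem, Module.natCard_eq_pow_finrank (K := FixedPoints.subfield G F) (V := F), hfr]

/-- An embedding of `F₀` with image the fixed field. -/
theorem exists_hom [Finite F] {F₀ : Type*} [Field F₀] [Finite F₀] {σ : F ≃+* F} {ℓ : ℕ} (hσ : orderOf σ = ℓ)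
    (hℓ : 0 < ℓ) (hc : Nat.card F = Nat.card F₀ ^ ℓ) : ∃ j : F₀ →+* F, ∀ a, σ a = a ↔ ∃ b, j b = a := by
  classical
  have h1 := card_fixed (F := F) hσ
  rw [hc] at h1
  have h2 : Nat.card F₀ = Nat.card ↥(RingHom.eqLocusField (σ : F →+* F) (RingHom.id F)) :=
    Nat.pow_left_injective (by omega) h1
  haveI : Fintype F₀ := Fintype.ofFinite _
  haveI : Fintype ↥(RingHom.eqLocusField (σ : F →+* F) (RingHom.id F)) := Fintype.ofFinite _
  rw [Nat.card_eq_fintype_card, Nat.card_eq_fintype_card] at h2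
  let e : F₀ ≃+* ↥(RingHom.eqLocusField (σ : F →+* F) (RingHom.id F)) := FiniteField.ringEquivOfCardEq h2
  refine ⟨(RingHom.eqLocusField (σ : F →+* F) (RingHom.id F)).subtype.comp (e : F₀ →+* _), fun a => ?_⟩
  constructor
  · intro h
    exact ⟨e.symm ⟨a, h⟩, by simp⟩
  · rintro ⟨b, rfl⟩
    exact (e b).2

/-- A matrix with entries in the range of `j`. -/
theorem exists_descend_matrix {F₀ : Type*} [Field F₀] {σ : F ≃+* F} {j : F₀ →+* F}
    (hj : ∀ a, σ a = a ↔ ∃ b, j b = a) {A : Matrix ι ι F} (hA : A.map σ = A) :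
    ∃ A₀ : Matrix ι ι F₀, A₀.map j = A := by
  have h : ∀ i k, ∃ b, j b = A i k := fun i k => (hj _).1 (congrFun (congrFun hA i) k)
  choose A₀ hA₀ using h
  exact ⟨A₀, by ext i k; exact hA₀ i k⟩

theorem map_injective {F₀ : Type*} [Field F₀] (j : F₀ →+* F) :
    Function.Injective (fun A : Matrix ι ι F₀ => A.map j) := Matrix.map_injective j.injective

/-- The same for invertible matrices. -/
theorem exists_descend_gl {F₀ : Type*} [Field F₀] {σ : F ≃+* F} {j : F₀ →+* F}
    (hj : ∀ a, σ a = a ↔ ∃ b, j b = a) {A : GL ι F} (hA : gm σ A = A) :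
    ∃ A₀ : GL ι F₀, Matrix.GeneralLinearGroup.map j A₀ = A := by
  have h1 : (A : Matrix ι ι F).map σ = (A : Matrix ι ι F) := congrArg Units.val hA
  have h2 : ((A⁻¹ : GL ι F) : Matrix ι ι F).map σ = ((A⁻¹ : GL ι F) : Matrix ι ι F) := by
    have := congrArg Units.val (map_inv (gm (ι := ι) σ) A)
    rw [hA] at this
    exact this
  obtain ⟨B, hB⟩ := exists_descend_matrix hj h1
  obtain ⟨C, hC⟩ := exists_descend_matrix hj h2
  refine ⟨⟨B, C, ?_, ?_⟩, Units.ext hB⟩
  · apply map_injective j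
    change (B * C).map j = (1 : Matrix ι ι F₀).map j
    rw [Matrix.map_mul, hB, hC, Matrix.map_one j (map_zero j) (map_one j), ← Units.val_mul, mul_inv_cancel,
      Units.val_one]
  · apply map_injective j
    change (C * B).map j = (1 : Matrix ι ι F₀).map j
    rw [Matrix.map_mul, hB, hC, Matrix.map_one j (map_zero j) (map_one j), ← Units.val_mul, inv_mul_cancel,
      Units.val_one]

end Field

end Cfsg.Agent.H202.Descent
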