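import Mathlib
import Cfsg.Agent.H202.PsuCent
import Cfsg.Agent.H202.Count
set_option linter.all false

/-!
# `PSU_n(q)`: counting `T`-classes in an `Inndiag`-class (helper202)

* `mem_inn_iff` : `f₁ A` is inner iff `det A` is an `n`-th power of a norm one element;
* `count_psu` : `splitClassCount (inndiagPSU) Inn x` = the index of `μ ^ n ⊔ det {A | f₁ A ∈ C(x)}` in `μ`, the group of the
  `(q+1)`-st roots of unity;
* `count_field` : the case of a field automorphism of odd order.
-/

set_option autoImplicit false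
set_option linter.unusedSectionVars false
set_option linter.style.haveILetI false

namespace Cfsg.Agent.H202.PsuCount

open Cfsg Matrix Cfsg.Agent.LieClassical.HermBasic Cfsg.Agent.LieClassical.HermSiegel
  Cfsg.Agent.ClassicalGeometry.PSUAutCount Cfsg.Agent.Schreier.PSU Cfsg.Agent.H202.Split Cfsg.Agent.H202.Psu
  Cfsg.Agent.H202.Iso Cfsg.Agent.H202.PsuCent Cfsg.Agent.H202.Count Cfsg.Agent.ClassicalGeometry.GUBasic
open Cfsg.Agent.ClassicalGeometry.UnitAutBasic (pr pr_surjective)

variable {F : Type*} [Field F] [Fintype F] {q n : ℕ}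

/-- Norm one elements as roots of unity. -/
theorem norm_of_root (z : rootsOfUnity (q + 1) F) : ((z : Fˣ) : F) * ((z : Fˣ) : F) ^ q = 1 := by
  rw [← pow_succ', ← Units.val_pow_eq_pow_val, (mem_rootsOfUnity _ _).1 z.2, Units.val_one]

theorem exists_root {c : F} (hc : c * c ^ q = 1) : ∃ z : rootsOfUnity (q + 1) F, ((z : Fˣ) : F) = c := by
  have hc0 : c ≠ 0 := by
    rintro rfl
    rw [zero_mul] at hc
    exact zero_ne_one hc
  refine ⟨⟨Units.mk0 c hc0, ?_⟩, rfl⟩
  rw [mem_rootsOfUnity]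
  apply Units.ext
  rw [Units.val_pow_eq_pow_val, Units.val_mk0, pow_succ', hc, Units.val_one]

theorem det_gm (hF : Fintype.card F = q ^ 2) (A : GU n F q) : ((detHom n hF A : Fˣ) : F) = (gm A).det := rfl

theorem root_ext {y z : rootsOfUnity (q + 1) F} (h : ((y : Fˣ) : F) = ((z : Fˣ) : F)) : y = z :=
  Subtype.ext (Units.ext h)

/-- `f₁ A` is inner iff `det A` is an `n`-th power in the group of norm one elements. -/
theorem mem_inn_iff (hF : Fintype.card F = q ^ 2) (hn : 3 ≤ n) (A : GU n F q) :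
    (f₁ A : MulAut (PSU n F q)) ∈ Inn (PSU n F q) ↔
      detHom n hF A ∈ (powMonoidHom n : rootsOfUnity (q + 1) F →* rootsOfUnity (q + 1) F).range := by
  constructor
  · rintro ⟨x, hx⟩
    obtain ⟨g, rfl⟩ := pr_surjective x
    obtain ⟨B0, hB0, hBm⟩ := ClassicalGeometry.HermOrtho.exists_GU_of_isometry (M := mat g) hF
      (fun u v => herm_act g u v)
    have h1 := f₁_eq_conj (⟨B0, hB0⟩ : GU n F q) g hBm
    rw [← h1, f₁_eq_iff hF hn] at hx
    obtain ⟨c, hc⟩ := hx
    have h2 : c * c ^ q = 1 := by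
      have h1 := herm_gm A (Pi.single ⟨0, by omega⟩ 1) (Pi.single ⟨0, by omega⟩ 1)
      rw [hc, smul_mulVec, herm_smul_left, herm_smul_right, herm_gm, herm_single_left,
        Pi.single_eq_same, one_pow] at h1
      linear_combination h1
    obtain ⟨z, hz⟩ := exists_root h2
    refine ⟨z, root_ext ?_⟩
    have hdet : (gm (⟨B0, hB0⟩ : GU n F q)).det = 1 := by
      rw [gm_def]
      change (B0 : Matrix (Fin n) (Fin n) F).det = 1
      rw [hBm]
      exact (g : SpecialLinearGroup (Fin n) F).det_coe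
    rw [det_gm, hc, Matrix.det_smul, hdet, mul_one, Fintype.card_fin, powMonoidHom_apply, ← hz]
    rfl
  · rintro ⟨z, hz⟩
    have hz1 := norm_of_root z
    obtain ⟨B, hB⟩ : ∃ B : GU n F q,
        B = sc n ⟨(((z⁻¹ : rootsOfUnity (q + 1) F) : Fˣ) : F), norm_of_root z⁻¹⟩ * A := ⟨_, rfl⟩
    have hgB : gm B = (((z⁻¹ : rootsOfUnity (q + 1) F) : Fˣ) : F) • gm A := by rw [hB, gm_sc_mul]
    have hdet : (gm B).det = 1 := by
      have h1 : ((detHom n hF A : Fˣ) : F) = ((z : Fˣ) : F) ^ n := by rw [← hz]; rfl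
      rw [det_gm] at h1
      have h2 : (gm B).det = (((z⁻¹ : rootsOfUnity (q + 1) F) : Fˣ) : F) ^ n * (gm A).det := by
        rw [hgB, Matrix.det_smul, Fintype.card_fin]
      rw [h2, h1, ← mul_pow]
      have h3 : (((z⁻¹ : rootsOfUnity (q + 1) F) : Fˣ) : F) * ((z : Fˣ) : F) = 1 := by
        rw [← Units.val_mul, ← Subgroup.coe_mul, inv_mul_cancel]
        rfl
      rw [h3, one_pow]
    have h1 : (f₁ A : MulAut (PSU n F q)) = f₁ B := by
      rw [f₁_eq_iff hF hn]
      exact ⟨_, hgB⟩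
    let g : SU n F q := mkSU (gm B) hdet (fun u v => herm_gm _ u v)
    rw [h1, f₁_eq_conj B g rfl]
    exact ⟨_, rfl⟩

theorem inn_le (hF : Fintype.card F = q ^ 2) : Inn (PSU n F q) ≤ inndiagPSU n F q := by
  rintro _ ⟨x, rfl⟩
  obtain ⟨g, rfl⟩ := pr_surjective x
  obtain ⟨B0, hB0, hBm⟩ := ClassicalGeometry.HermOrtho.exists_GU_of_isometry (M := mat g) hF
    (fun u v => herm_act g u v)
  rw [inndiag_eq]
  exact ⟨⟨B0, hB0⟩, f₁_eq_conj (⟨B0, hB0⟩ : GU n F q) g hBm⟩

theorem isCyclic_roots : IsCyclic (rootsOfUnity (q + 1) F) := inferInstance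

/-- **Counting.** -/
theorem count_psu (hF : Fintype.card F = q ^ 2) (hn : 3 ≤ n) (x : MulAut (PSU n F q)) :
    splitClassCount (inndiagPSU n F q) (Inn (PSU n F q)) x =
      ((powMonoidHom n : rootsOfUnity (q + 1) F →* rootsOfUnity (q + 1) F).range ⊔
        ((Subgroup.centralizer ({x} : Set (MulAut (PSU n F q)))).comap f₁).map (detHom n hF)).index := by
  rw [count_general (f₁ (F := F) (q := q) (n := n)) (detHom n hF) (detHom_surjective (by omega) hF) inndiag_eq
    (inn_le hF) (fun h _ k hk => inn_normal.conj_mem k hk h) ?_ x]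
  · congr 2
    ext z
    rw [Subgroup.mem_map]
    constructor
    · rintro ⟨A, hA, rfl⟩
      exact (mem_inn_iff hF hn A).1 hA
    · intro hz
      obtain ⟨A, rfl⟩ := detHom_surjective (by omega : 1 ≤ n) hF z
      exact ⟨A, (mem_inn_iff hF hn A).2 hz, rfl⟩
  · intro A hA
    rw [MonoidHom.mem_ker] at hA
    rw [Subgroup.mem_comap, mem_inn_iff hF hn, hA]
    exact one_mem _

/-- The kernel of a power map of a cyclic group. -/
theorem ker_pow_eq_range {Z : Type*} [CommGroup Z] [IsCyclic Z] [Finite Z] {a b : ℕ} (h : Nat.card Z = a * b) :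
    (powMonoidHom a : Z →* Z).ker = (powMonoidHom b : Z →* Z).range := by
  symm
  have hpos : 0 < Nat.card Z := Nat.card_pos
  have hb : 0 < b := by
    rcases Nat.eq_zero_or_pos b with hb | hb
    · rw [h, hb, mul_zero] at hpos
      exact absurd hpos (lt_irrefl 0)
    · exact hb
  apply Subgroup.eq_of_le_of_card_ge
  · rintro _ ⟨z, rfl⟩
    rw [MonoidHom.mem_ker, powMonoidHom_apply, powMonoidHom_apply, ← pow_mul, mul_comm b a, ← h, pow_card_eq_one']
  · rw [IsCyclic.card_powMonoidHom_ker, IsCyclic.card_powMonoidHom_range, h, Nat.gcd_eq_right (Dvd.intro b rfl),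
      Nat.gcd_eq_right (Dvd.intro_left a rfl), Nat.mul_div_cancel _ hb]

variable {F₀ : Type*} [Field F₀] [Fintype F₀]

/-- The scalar relating two unitary matrices has norm one. -/
theorem norm_one_of_smul (hn : 3 ≤ n) {A B : GU n F q} {c : F} (hc : gm A = c • gm B) : c * c ^ q = 1 := by
  have h1 := herm_gm A (Pi.single ⟨0, by omega⟩ 1) (Pi.single ⟨0, by omega⟩ 1)
  rw [hc, smul_mulVec, herm_smul_left, herm_smul_right, herm_gm, herm_single_left,
    Pi.single_eq_same, one_pow] at h1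
  linear_combination h1

/-- **The number of classes for a field automorphism.** -/
theorem count_field {q₀ k : ℕ} (hF : Fintype.card F = q ^ 2) (hF₀ : Fintype.card F₀ = q₀ ^ 2) (hn : 3 ≤ n)
    {σ : F ≃+* F} {j : F₀ →+* F} (hj : ∀ a, σ a = a ↔ ∃ b, j b = a) (hq : ∀ a, j a ^ q = j (a ^ q₀))
    (hk : q + 1 = (q₀ + 1) * k) :
    splitClassCount (inndiagPSU n F q) (Inn (PSU n F q)) (f₂ σ) = Nat.gcd n k := by
  classical
  haveI : Finite (rootsOfUnity (q + 1) F) := inferInstance
  have hcardμ := card_rootsOfUnity_eq hF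
  have hcardμ₀ := card_rootsOfUnity_eq hF₀
  -- the centralizer in `GU`
  have hC : ∀ A : GU n F q, A ∈ (Subgroup.centralizer ({(f₂ σ : MulAut (PSU n F q))} : Set (MulAut (PSU n F q)))).comap f₁ ↔
      ∃ (Q : GU n F₀ q₀) (c : Fˣ), gm A = (c : F) • (gm Q).map j := by
    intro A
    rw [← fixed_iff hF hF₀ hn hj hq]
    have h0 := f₁_comm_iff hF hn (1 : GU n F q) A σ
    rw [map_one, one_mul, gm_one, mul_one, one_mul, inndiag_eq] at h0
    rw [← h0, Subgroup.mem_comap, Subgroup.mem_inf]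
    exact ⟨fun h => ⟨⟨A, rfl⟩, h⟩, fun h => h.2⟩
  -- lifting a unitary matrix over `F₀`
  let L : GU n F₀ q₀ → GU n F q := fun Q => ⟨_, (mem_GU_map_iff hF hF₀ hq _).1 Q.2⟩
  have hL : ∀ Q, gm (L Q) = (gm Q).map j := fun Q => rfl
  have hLdet : ∀ Q, ((detHom n hF (L Q) : Fˣ) : F) = j ((detHom n hF₀ Q : F₀ˣ) : F₀) := by
    intro Q
    rw [det_gm, hL, det_gm, RingHom.map_det]
    rfl
  rw [count_psu hF hn]
  have hkey : (powMonoidHom n : rootsOfUnity (q + 1) F →* rootsOfUnity (q + 1) F).range ⊔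
      ((Subgroup.centralizer ({(f₂ σ : MulAut (PSU n F q))} : Set (MulAut (PSU n F q)))).comap f₁).map (detHom n hF) =
      (powMonoidHom n : rootsOfUnity (q + 1) F →* rootsOfUnity (q + 1) F).range ⊔
      (powMonoidHom k : rootsOfUnity (q + 1) F →* rootsOfUnity (q + 1) F).range := by
    have hker := ker_pow_eq_range (Z := rootsOfUnity (q + 1) F) (a := q₀ + 1) (b := k) (by rw [hcardμ, hk])
    apply le_antisymm
    · refine sup_le le_sup_left ?_
      rintro _ ⟨A, hA, rfl⟩
      obtain ⟨Q, c, hc⟩ := (hC A).1 hA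
      rw [← hL] at hc
      obtain ⟨z, hz⟩ := exists_root (norm_one_of_smul hn hc)
      have h1 : detHom n hF A = z ^ n * detHom n hF (L Q) := by
        apply root_ext
        rw [det_gm, hc, Matrix.det_smul, Fintype.card_fin, ← hz]
        rfl
      rw [h1]
      refine mul_mem (Subgroup.mem_sup_left ⟨z, rfl⟩) (Subgroup.mem_sup_right ?_)
      rw [← hker, MonoidHom.mem_ker, powMonoidHom_apply]
      apply root_ext
      change ((detHom n hF (L Q) : Fˣ) : F) ^ (q₀ + 1) = 1
      rw [hLdet, ← map_pow]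
      have h2 := norm_of_root (detHom n hF₀ Q)
      rw [← pow_succ'] at h2
      rw [h2, map_one]
    · refine sup_le le_sup_left ?_
      rw [← hker]
      intro z hz
      rw [MonoidHom.mem_ker, powMonoidHom_apply] at hz
      -- `z` comes from `F₀`
      have hjne : ∀ y : F₀ˣ, j (y : F₀) ≠ 0 := fun y h => y.ne_zero (j.injective (h.trans (map_zero j).symm))
      let J : rootsOfUnity (q₀ + 1) F₀ → (powMonoidHom (q₀ + 1) : rootsOfUnity (q + 1) F →* _).ker := fun y =>
        ⟨⟨Units.map (j : F₀ →* F) (y : F₀ˣ), by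
          rw [mem_rootsOfUnity, hk, pow_mul, ← map_pow, (mem_rootsOfUnity _ _).1 y.2, map_one, one_pow]⟩, by
          rw [MonoidHom.mem_ker, powMonoidHom_apply]
          apply Subtype.ext
          change (Units.map (j : F₀ →* F) (y : F₀ˣ)) ^ (q₀ + 1) = 1
          rw [← map_pow, (mem_rootsOfUnity _ _).1 y.2, map_one]⟩
      have hJinj : Function.Injective J := by
        intro y y' h
        apply Subtype.ext
        apply Units.ext
        apply j.injective
        exact congrArg (fun t : (powMonoidHom (q₀ + 1) : rootsOfUnity (q + 1) F →* _).ker => (((t.1 : Fˣ)) : F)) h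
      have hJsurj : Function.Surjective J := by
        haveI : Fintype (rootsOfUnity (q₀ + 1) F₀) := Fintype.ofFinite _
        haveI : Fintype (powMonoidHom (q₀ + 1) : rootsOfUnity (q + 1) F →* rootsOfUnity (q + 1) F).ker :=
          Fintype.ofFinite _
        refine ((Fintype.bijective_iff_injective_and_card J).2 ⟨hJinj, ?_⟩).2
        rw [← Nat.card_eq_fintype_card, ← Nat.card_eq_fintype_card, hcardμ₀, IsCyclic.card_powMonoidHom_ker, hcardμ, hk,
          Nat.gcd_eq_right (Dvd.intro k rfl)]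
      obtain ⟨y, hy⟩ := hJsurj ⟨z, by rw [MonoidHom.mem_ker, powMonoidHom_apply, hz]⟩
      obtain ⟨Q, hQ⟩ := detHom_surjective (by omega : 1 ≤ n) hF₀ y
      refine Subgroup.mem_sup_right ⟨L Q, (hC _).2 ⟨Q, 1, ?_⟩, ?_⟩
      · rw [hL, Units.val_one, one_smul]
      · apply root_ext
        rw [hLdet, hQ]
        exact congrArg (fun t : (powMonoidHom (q₀ + 1) : rootsOfUnity (q + 1) F →* _).ker => (((t.1 : Fˣ)) : F)) hy
  rw [hkey, range_pow_sup, IsCyclic.index_powMonoidHom_range, hcardμ, hk]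
  exact Nat.gcd_eq_right ((Nat.gcd_dvd_right n k).trans (Dvd.intro_left _ rfl))

end Cfsg.Agent.H202.PsuCount
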